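import Cfsg.Agent.Lib.Spor.TC.Signed

/-!
Two lifts of transvections commute: tables found by a computer search.
-/

set_option autoImplicit false
set_option maxRecDepth 100000

namespace CfsgLib.Spor.HSType.Cert.K0Com

open CfsgLib.Spor.TC

def edgeTbl : Tbl :=
  (.bin (.bin (.bin (.tip 0x1e0001550001d0001e2000010001d40001b0001c2000000001b6000000001a4000190000120001800019200017000182000160001720001500016200000000152000130001450001200013200011000126000100001150000f0001030000e0000f40000d0000e20000c0000d60000b0000c50000a0000b3000090000a5000080000920000700008400006000077000050000630000400005400003000042000020000340000100002700000000013) (.tip 0x134000140000080001a0001380003d0001280004b000118000280001080003f0000f80003b0004a80003a0004a2000450003a800033000456)) (.bin (.tip 0x4300020400042000434000200004240002100041400028000404000280003f20003e0002880003e0004040003d0001a20003e0003f2000190003e60003d0001950003c0003d20003c0001750001e0003c20003b0000e40000f0003b4000390000d40003a000336000390003a20000b0003960000b0000730000b0003880000700006700007000382000370000780003700038200006000376000360002f5000340003620003500006400034000354) .none)) (.bin (.bin (.tip 0x6000344000330000620003200033200031000322000300003120002f0003020002f0002a5000050002f2000260002e20002c0002d20002b0002c20002a0002b2000290002a2000040002920002800019600027000282000200002760000400022500026000024000030002640002500021200024000252000230002420002200023200020000222000210000220001c00021600002000017000020002020001f0000280001f000202000010001f6)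 .none) (.bin (.tip 0x43000338000490000680003d0004b70004b000284000400004b40004a0003f5000450004a20004300049200043000488000480004920002e0004820002d000064000350002d80002d00025500034000258000470002d8000360002180002b000434000440002c8000460002f8000420002b80002a00041800047000255000440004720002900024500041000422000460002140004100046400045000437000270004540004400023500042000442) .none)))

def nodeTbl : Tbl :=
  (.bin (.bin (.tip 0x160001d20000140001b20000060000040001820001720001620001520000020001350001220001160001050000f30000e40000d20000c60000b50000a3000095000082000074000067000053000044000032000024000017000003000000) (.tip 0x4040004520004820002e20004420004140002740004220004240002040002140003e4)) (.bin (.tip 0x3e20001960003c20001e20000f40003920000b60003720000660003420003440000640003220003120003020002f20000520002620002c20002b20002a20002920000420002720002060000340002420002320002220002020001c60001f2) .none))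

def rowTbl : Tbl :=
  .none

/-- The relators. -/
def rels : List (List ℕ) := [
  [0, 0, 0, 0],
  [2, 2, 2, 2, 2, 2, 2],
  [4, 4, 4],
  [4, 2, 5, 3, 3],
  [4, 0, 5, 1],
  [0, 2, 0, 3, 1, 2, 1, 3],
  [0, 2, 2, 0, 3, 3, 1, 2, 2, 1, 3, 3],
  [2, 0, 3, 2, 2, 0, 3, 3, 2, 1, 3, 2, 2, 1, 3, 3],
  [2, 2, 2, 0, 3, 3, 3, 2, 2, 1, 3, 3, 2, 2, 1, 3, 3, 2, 1, 3, 2, 1, 3, 2, 1, 3, 1],
  [6, 4, 7, 4],
  [6, 0, 7, 0],
  [6, 2, 0, 3, 7, 2, 2, 1, 3, 3],
  [6, 6],
  [2, 6, 2, 6, 2, 6]]

/-- The generators of the subgroup. -/
def subs : List (List ℕ) := []

/-- The certificate. -/
noncomputable def cert : Cert :=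
  ⟨8, rels, subs, edgeTbl.get 44, nodeTbl.get 24, rowTbl.get 20⟩

/-- The word traced into the subgroup. -/
def target : List ℕ := [3, 7, 4, 2, 4, 3, 7, 4, 2, 5, 3, 5, 6, 2, 4, 3, 5, 6, 2, 5]

end CfsgLib.Spor.HSType.Cert.K0Com
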