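import Cfsg.Agent.Lib.Spor.HSType.Cert.K0Com.Data

/-!
Checks of a part of the derivation.
-/

set_option autoImplicit false

namespace CfsgLib.Spor.HSType.Cert.K0Com

open CfsgLib.Spor.TC

def scodes0 : List ℕ := [
  0x1,
  0x1,
  0x1,
  0x1,
  0x1,
  0x1,
  0x1,
  0x1,
  0x1,
  0x1,
  0x1,
  0x1,
  0x1,
  0x1,
  0x1,
  0x1,
  0x1,
  0x1,
  0x1,
  0x1,
  0x1,
  0x1,
  0x1,
  0x1,
  0x1,
  0x10002a0002c0002e000300003200006000010000200002,
  0x1,
  0x1,
  0x1,
  0x1,
  0x1,
  0x29000020003c0003e00003000020000400002,
  0x1,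
  0x1,
  0x30004200002000020000d00002,
  0x430004600004,
  0x420004600004,
  0x1,
  0x300001000380003a0004c00005000020000e00002,
  0x1,
  0x1,
  0x1,
  0x1,
  0x4e000480005000052000540005600006000030000200002,
  0x1,
  0x60005a00003000030000300002,
  0x4f00047000060000800003000030000400002,
  0x1,
  0x1,
  0x340004900048000600006200004000030000e00002,
  0x1,
  0x1,
  0x1,
  0x1,
  0x1,
  0x1,
  0x1,
  0x67000650000a0007200003000050000400002,
  0x1,
  0x1,
  0x1,
  0x1,
  0xb0007200076000780007a0007c00006000060000200002,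
  0x1,
  0x1,
  0x800008200003000070000300002,
  0x1,
  0x710000c000800008600003000070000400002,
  0x1,
  0x1,
  0xd0008a00002000070000d00002,
  0x8b0008e00004,
  0x8a0008e00004,
  0x8f0001000012000140001600005000080000400002,
  0x900009300004,
  0x1,
  0x1,
  0x7e0009100095000980009a00004000080000e00002,
  0x190001700098000020000c0000a00002,
  0x1,
  0x1e000a0000030000f0000300002,
  0x1,
  0x2d0002b0003f000a400003000160000400002,
  0x1,
  0x310002f000a5000a800003000180000400002,
  0x1,
  0x1,
  0x350000200033000a9000020001a0000400002,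
  0x1,
  0x64000ac000020001a0000d00002,
  0xad000b400004,
  0xb1000b400004,
  0x1,
  0x1,
  0x1,
  0xbc000be00003000210000300002,
  0x1,
  0x510004f000bc000c200003000210000400002,
  0x1,
  0xc000060000c600003000210000a00002,
  0x1,
  0xba000ca00003000220000300002,
  0xbb000470004d000ba00002000220000400002,
  0x53000510005d0006600003000230000400002,
  0x1,
  0x5500053000c3000d200003000240000400002,
  0xb90005700055000cf0006800003000250000400002,
  0x69000d6000ce00004,
  0x74000d6000ca00004,
  0x6b000d7000c200004,
  0xbd000d800004,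
  0xcb000da0008700004,
  0x6d000db000d200004,
  0x58000df0008500004,
  0xd3000e200004,
  0xe6000e30008200004,
  0x83000e800004,
  0x1,
  0x1,
  0xeb0006f0005c00048000bf00004000270000400002,
  0xed000ef00004,
  0x1,
  0xb500061000c6000f400003000280000400002,
  0x1,
  0xb8000f800003000290000300002,
  0xfa00064000a900003000290000a00002,
  0xe90006d0006b000de000f2000030002c0000400002,
  0x7e000fd000f100004,
  0xc80010000004,
  0x9c0010200002000340000d00002,
  0xf30010400004,
  0x105000990009e0001c000a1000040003a0000400002,
  0xa000108000f600004,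
  0x1f00109000b500004,
  0x210010b000f900004,
  0x230010d000fb00004,
  0x250010f000b000004,
  0x36001120002800004,
  0x280011400004]

set_option maxRecDepth 100000 in
theorem steps0 : cert.SStepsOK 0 139 :=
  Cert.SStepsOK.of_check _ (codes := scodes0) (by decide +kernel)

end CfsgLib.Spor.HSType.Cert.K0Com
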